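import Groth.Agent.Lib.PicThick4.Glue
import Groth.Agent.Lib.Twist.Gen

/-!
# Unit cocycles and invertible modules
-/

set_option autoImplicit false
set_option backward.isDefEq.respectTransparency false
universe u

open CategoryTheory CategoryTheory.Limits AlgebraicGeometry Opposite TopologicalSpace

namespace Groth.Agent.PicCoc15

open Groth.Agent.M1

variable {X : Scheme.{u}} {ι : Type u} (U : ι → X.Opens)

theorem exists_realizing (hU : iSup U = ⊤) (η : ∀ i j : ι, (Γ(X, U i ⊓ U j))ˣ)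
    (hη : ∀ i j k : ι,
      X.presheaf.map (homOfLE (inf_le_inf_right (U k) inf_le_left : U i ⊓ U j ⊓ U k ≤ U i ⊓ U k)).op
          (η i k : Γ(X, U i ⊓ U k)) =
        X.presheaf.map (homOfLE (inf_le_left : U i ⊓ U j ⊓ U k ≤ U i ⊓ U j)).op (η i j : Γ(X, U i ⊓ U j)) *
          X.presheaf.map (homOfLE (inf_le_inf_right (U k) inf_le_right : U i ⊓ U j ⊓ U k ≤ U j ⊓ U k)).op
            (η j k : Γ(X, U j ⊓ U k))) :
    ∃ (L : X.Modules) (s : ∀ i : ι, Γ(L, U i)), PicF.IsInvertible L ∧ (∀ i, Twist.IsGen L (U i) (s i)) ∧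
      ∀ i j : ι, mres L (inf_le_left : U i ⊓ U j ≤ U i) (s i) =
        (η i j : Γ(X, U i ⊓ U j)) • mres L (inf_le_right : U i ⊓ U j ≤ U j) (s j) := by
  have hc : ∀ (i j k : ι) (W : X.Opens) (hi : W ≤ U i) (hj : W ≤ U j) (hk : W ≤ U k),
      ores (le_inf hi hk) (η i k : Γ(X, U i ⊓ U k)) =
        ores (le_inf hi hj) (η i j : Γ(X, U i ⊓ U j)) * ores (le_inf hj hk) (η j k : Γ(X, U j ⊓ U k)) := by
    intro i j k W hi hj hk
    have h : ores (le_inf (le_inf hi hj) hk : W ≤ U i ⊓ U j ⊓ U k)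
          (ores (inf_le_inf_right (U k) inf_le_left : U i ⊓ U j ⊓ U k ≤ U i ⊓ U k) (η i k : Γ(X, U i ⊓ U k))) =
        ores (le_inf (le_inf hi hj) hk : W ≤ U i ⊓ U j ⊓ U k)
          (ores (inf_le_left : U i ⊓ U j ⊓ U k ≤ U i ⊓ U j) (η i j : Γ(X, U i ⊓ U j)) *
            ores (inf_le_inf_right (U k) inf_le_right : U i ⊓ U j ⊓ U k ≤ U j ⊓ U k) (η j k : Γ(X, U j ⊓ U k))) :=
      congrArg _ (hη i j k)
    rw [map_mul, ores_ores, ores_ores, ores_ores] at h
    exact h
  let g : ∀ i j, Γ(X, U i ⊓ U j) := fun i j => ores (le_inf inf_le_right inf_le_left) (η j i : Γ(X, U j ⊓ U i))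
  have hrefl : ∀ i, g i i = 1 := fun i => by
    have h := hc i i i (U i ⊓ U i) inf_le_left inf_le_left inf_le_left
    have hu : IsUnit (ores (le_inf (inf_le_left : U i ⊓ U i ≤ U i) inf_le_left) (η i i : Γ(X, U i ⊓ U i))) :=
      (η i i).isUnit.map _
    exact hu.mul_left_cancel (h.symm.trans (mul_one _).symm)
  let c : PicThick4.Coc X ι :=
    { V := U
      g := g
      refl := hrefl
      comp := fun i j k W hi hj hk => by
        change ores (le_inf hi hj) (g i j) * ores (le_inf hj hk) (g j k) = ores (le_inf hi hk) (g i k)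
        simp only [g, ores_ores]
        rw [mul_comm]
        exact (hc k j i W hk hj hi).symm }
  obtain ⟨L, hL, e, he, ht⟩ := PicThick4.exists_module_triv c hU
  refine ⟨L, e, hL, he, fun i j => ?_⟩
  have h := congrArg (mres L (le_inf inf_le_right inf_le_left : U i ⊓ U j ≤ U j ⊓ U i)) (ht j i)
  rw [mres_smul, mres_mres, mres_mres] at h
  refine h.trans ?_
  congr 1
  change ores _ (ores _ _) = _
  rw [ores_ores, ores_id]

/-- Isomorphism classes and cohomologous cocycles. -/
theorem nonempty_iso_iff (hU : iSup U = ⊤) (L L' : X.Modules) (s : ∀ i, Γ(L, U i)) (s' : ∀ i, Γ(L', U i))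
    (hs : ∀ i, Twist.IsGen L (U i) (s i)) (hs' : ∀ i, Twist.IsGen L' (U i) (s' i))
    (η η' : ∀ i j : ι, Γ(X, U i ⊓ U j))
    (hη : ∀ i j, mres L (inf_le_left : U i ⊓ U j ≤ U i) (s i) = η i j • mres L inf_le_right (s j))
    (hη' : ∀ i j, mres L' (inf_le_left : U i ⊓ U j ≤ U i) (s' i) = η' i j • mres L' inf_le_right (s' j)) :
    Nonempty (L ≅ L') ↔ ∃ u : ∀ i : ι, (Γ(X, U i))ˣ, ∀ i j : ι,
      η' i j * ores (inf_le_left : U i ⊓ U j ≤ U i) (u i : Γ(X, U i)) =
        ores (inf_le_right : U i ⊓ U j ≤ U j) (u j : Γ(X, U j)) * η i j := by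
  constructor
  · rintro ⟨τ⟩
    choose a ha using fun i => (hs' i _ le_rfl).2 (τ.hom.app (U i) (s i))
    choose b hb using fun i => (hs i _ le_rfl).2 (τ.inv.app (U i) (s' i))
    simp only [mres_id] at ha hb
    have hab : ∀ i, a i * b i = 1 := fun i => by
      refine (hs i _ le_rfl).1 ?_
      change (a i * b i) • mres L le_rfl (s i) = (1 : Γ(X, U i)) • mres L le_rfl (s i)
      rw [mres_id, one_smul, mul_smul, hb, ← τ.inv.app_smul, ha]
      exact congr(($(τ.hom_inv_id)).app (U i) (s i))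
    refine ⟨fun i => ⟨a i, b i, hab i, (mul_comm _ _).trans (hab i)⟩, fun i j => ?_⟩
    refine (hs' j _ inf_le_right).1 ?_
    change (η' i j * ores _ (a i)) • mres L' (inf_le_right : U i ⊓ U j ≤ U j) (s' j) =
      (ores _ (a j) * η i j) • mres L' inf_le_right (s' j)
    rw [mul_comm (η' i j), mul_comm (ores _ (a j)), mul_smul, mul_smul, ← hη', ← mres_smul, ← mres_smul, ha,
      ha, ← app_mres, ← app_mres, hη, τ.hom.app_smul]
  · rintro ⟨u, hu⟩
    refine ⟨(Twist.exists_iso_of_gen U hU s (fun i => (u i : Γ(X, U i)) • s' i) hs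
      (fun i V hV => ?_) ?_).choose⟩
    · have hu' : IsUnit (ores hV (u i : Γ(X, U i))) := (u i).isUnit.map _
      have := (hs' i V hV).comp (hu'.unit.mulRight).bijective
      convert this using 1
      funext r
      simp only [Function.comp_apply, Units.mulRight_apply, IsUnit.unit_spec, mres_smul, mul_smul]
    · intro i j V hi hj t ht
      have he : V ≤ U i ⊓ U j := le_inf hi hj
      have h1 := congrArg (mres L he) (hη i j)
      rw [mres_smul, mres_mres, mres_mres, ht, ← mul_smul] at h1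
      have h1' : ores he (η i j) * t = 1 := ((hs i V hi).1 ((one_smul _ _).trans h1)).symm
      have h2 := congrArg (mres L' he) (hη' i j)
      rw [mres_smul, mres_mres, mres_mres] at h2
      have h3 := congrArg (ores he) (hu i j)
      rw [map_mul, map_mul, ores_ores, ores_ores] at h3
      rw [mres_smul, mres_smul, h2, ← mul_smul, ← mul_smul]
      congr 1
      linear_combination (-t) * h3 - (ores hj (u j : Γ(X, U j))) * h1'

end Groth.Agent.PicCoc15
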